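import Mathlib
import Cfsg.Agent.Lib.Helper81.KS12.S2950Core
import Cfsg.Agent.Lib.Helper97.KS12.S2948Core

/-!
KS12 project: the statement S2948 follows from helper97's core (`s2948_core`) and the generation
property `GenByJComponents` (package FF3): if `L ∈ jOvergroups T` had no `J(T)`-component then
`J(T)` would be normal in `L`.  Consequently S2950 needs only S2942, `GenByJComponents` and
`JCompCentralize`.  (helper81)
-/

set_option autoImplicit false

namespace Cfsg.Agent.Lib.Helper81.KS12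

open Cfsg
open Cfsg.Agent.Lib.Helper85.KS12

variable {G : Type*} [Group G]

/-- If `L ∈ jOvergroups T` is generated by its `J(T)`-components and `N_L(J(T))`, then `L`
contains a `J(T)`-component. -/
theorem exists_jComponent_of_gen [Finite G] {T L : Subgroup G} (hT : IsPGroup 2 T)
    (hLT : L ∈ jOvergroups T) (hGen : GenByJComponents T L) :
    ∃ K : Subgroup G, IsJComponent T K ∧ K ≤ L := by
  by_contra hne
  have hempty : {K : Subgroup G | IsJComponent T K ∧ K ≤ L} = ∅ := by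
    ext K
    simp only [Set.mem_empty_iff_false, iff_false]
    intro hK
    exact hne ⟨K, hK⟩
  have hLN : L ≤ Subgroup.normalizer (thompsonSubgroupOf 2 T : Set G) := by
    have h := hGen
    unfold GenByJComponents at h
    rw [hempty, sSup_empty, bot_sup_eq] at h
    exact h.trans inf_le_right
  have hJT : thompsonSubgroupOf 2 T ≤ T := Cfsg.Agent.Lib.Helper11.thompsonSubgroupOf_le 2 T
  exact hLT.2.1 (le_pCoreOf_of_normal (hT.to_le hJT) (hJT.trans hLT.1.1) hLN)

/-- S2948 from the generation property (FF3) alone. -/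
theorem s2948_of_gen [Finite G] (hL : Cfsg.IsCharacteristicTwoType G)
    (hN : ∀ N : Subgroup G, Cfsg.IsTwoLocal N → Group.IsSolvable ↥N)
    (hZ : ∀ S : Sylow 2 G, Subgroup.centralizer (Cfsg.omegaCenterOf (S : Subgroup G) : Set G) ≤
      Subgroup.normalizer ((S : Subgroup G) : Set G))
    (hO : Cfsg.pCore 2 G = ⊥)
    (hGen : ∀ T L : Subgroup G, IsPGroup 2 T → T ≠ ⊥ → L ∈ jOvergroups T → GenByJComponents T L) :
    type_of% (@Cfsg.CfsgFrozen.S2948 G _ _ hL hN hZ hO) := by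
  intro S M hM hMJ T hT L hL2 hLM T₀ hT₀ hJT₀
  obtain ⟨h1, h2, h3, h4⟩ :=
    Cfsg.Agent.Lib.Helper97.KS12.s2948_core hL S M hMJ T hT L hL2 hLM T₀ hT₀ hJT₀
  refine ⟨h1, h2, h3, fun hTL => ⟨h4 hTL, ?_⟩⟩
  exact exists_jComponent_of_gen hT.1.1 (h4 hTL) (hGen T L hT.1.1 hT.1.2.1 (h4 hTL))

/-- S2950 from S2942, the generation property (FF3) and `JCompCentralize`. -/
theorem s2950_of_gen_comm [Finite G] (hL : Cfsg.IsCharacteristicTwoType G)
    (hN : ∀ N : Subgroup G, Cfsg.IsTwoLocal N → Group.IsSolvable ↥N)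
    (hZ : ∀ S : Sylow 2 G, Subgroup.centralizer (Cfsg.omegaCenterOf (S : Subgroup G) : Set G) ≤
      Subgroup.normalizer ((S : Subgroup G) : Set G))
    (hO : Cfsg.pCore 2 G = ⊥)
    (h2942 : type_of% (@Cfsg.CfsgFrozen.S2942 G _ _ hL hN hZ))
    (hGen : ∀ T L : Subgroup G, IsPGroup 2 T → T ≠ ⊥ → L ∈ jOvergroups T → GenByJComponents T L)
    (hComm : JCompCentralize G)
    (S : Sylow 2 G) (M : Subgroup G) (hM : Cfsg.IsTwoLocal M)
    (hMJ : Subgroup.normalizer (Cfsg.thompsonSubgroupOf 2 (S : Subgroup G) : Set G) ≤ M)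
    (T : Subgroup G) (hT : T ∈ Cfsg.maxStraddlingTwoSubgroups M)
    (K : Subgroup G) (hK : K ∈ Cfsg.jComponentsOutside M T) :
    ∃ L : Subgroup G, Cfsg.IsMaximalTwoLocal L ∧ K ⊔ Cfsg.thompsonSubgroupOf 2 T ≤ L ∧
      (∀ L' : Subgroup G, Cfsg.IsMaximalTwoLocal L' → K ⊔ Cfsg.thompsonSubgroupOf 2 T ≤ L' →
        L' = L) ∧
      (K.subgroupOf L).IsSubnormal ∧ Cfsg.IsSylowTwoIn T L :=
  s2950_core hL hN hZ hO h2942 (s2948_of_gen hL hN hZ hO hGen) hGen hComm S M hM hMJ T hT K hK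

end Cfsg.Agent.Lib.Helper81.KS12
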