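import Mathlib
import Cfsg.Statements.S2948
import Cfsg.Statements.S2949
import Cfsg.Statements.S2950
import Cfsg.Agent.Lib.Helper96.KS12.V3
import Cfsg.Agent.Lib.Helper2.KS12.V4b

/-!
Kurzweil–Stellmacher chapter 12 cluster, statement S2951, case `T = S`, scenario (U): the maximal
2-local subgroup `L ∈ jOvergroups S` contains every 2-local subgroup containing the Sylow
2-subgroup `S`.  Steps 1–3 of helper34's proof (note 2816): there is `T' < S` maximal straddling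
for `L`, a `J(T')`-component `K' ≰ L` with its unique maximal 2-local `L'`, `Ω₁(Z(S)) ≤ O₂(L')`
has order 2 and `Ω₁(Z(J(T')))` has order at most 4.  (helper81)
-/

set_option autoImplicit false

namespace Cfsg.Agent.Lib.Helper81.KS12

open Cfsg

variable {G : Type*} [Group G]

theorem exists_straddle_data [Finite G] (hL : Cfsg.IsCharacteristicTwoType G)
    (hN : ∀ N : Subgroup G, Cfsg.IsTwoLocal N → Group.IsSolvable ↥N)
    (hZ : ∀ S : Sylow 2 G, Subgroup.centralizer (Cfsg.omegaCenterOf (S : Subgroup G) : Set G) ≤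
      Subgroup.normalizer ((S : Subgroup G) : Set G))
    (hO : Cfsg.pCore 2 G = ⊥)
    (h2948 : type_of% (@Cfsg.CfsgFrozen.S2948 G _ _ hL hN hZ hO))
    (h2949 : type_of% (@Cfsg.CfsgFrozen.S2949 G _ _ hL hN hZ hO))
    (h2950 : type_of% (@Cfsg.CfsgFrozen.S2950 G _ _ hL hN hZ hO))
    (hV4 : ∀ (S : Sylow 2 G) (M : Subgroup G), IsTwoLocal M →
      Subgroup.normalizer (thompsonSubgroupOf 2 (S : Subgroup G) : Set G) ≤ M →
      ∀ T : Subgroup G, T ∈ maxStraddlingTwoSubgroups M → T ≤ (S : Subgroup G) →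
      ∀ K : Subgroup G, K ∈ jComponentsOutside M T → ∀ L : Subgroup G, IsMaximalTwoLocal L →
      K ⊔ thompsonSubgroupOf 2 T ≤ L → T ≠ (S : Subgroup G) →
        (omegaCenterOf (S : Subgroup G) = omegaCenterOf (thompsonSubgroupOf 2 T) ∧
          Nat.card ↥(omegaCenterOf (thompsonSubgroupOf 2 T)) = 2) ∨
        (omegaCenterOf T = omegaCenterOf (thompsonSubgroupOf 2 T) ∧
          Nat.card ↥(omegaCenterOf (thompsonSubgroupOf 2 T)) = 4))
    (S : Sylow 2 G) (L : Subgroup G) (hLmax : IsMaximalTwoLocal L)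
    (hLS : L ∈ jOvergroups (S : Subgroup G))
    (hU : ∀ N : Subgroup G, IsTwoLocal N → (S : Subgroup G) ≤ N → N ≤ L) :
    Nat.card ↥(omegaCenterOf (S : Subgroup G)) = 2 ∧
    ∃ T' K' L' : Subgroup G, IsPGroup 2 ↥T' ∧ T' ≠ ⊥ ∧ T' ≤ (S : Subgroup G) ∧ T' ≤ L ∧
      IsJComponent T' K' ∧ ¬ K' ≤ L ∧ IsMaximalTwoLocal L' ∧ IsSylowTwoIn T' L' ∧
      omegaCenterOf (S : Subgroup G) ≤ pCoreOf 2 L' ∧
      Nat.card ↥(omegaCenterOf (thompsonSubgroupOf 2 T')) ≤ 4 := by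
  have : Fact (Nat.Prime 2) := ⟨Nat.prime_two⟩
  -- `N_G(J(S)) ≤ L`
  have hJS : thompsonSubgroupOf 2 (S : Subgroup G) ≤ (S : Subgroup G) :=
    Cfsg.Agent.Lib.Helper11.thompsonSubgroupOf_le 2 (S : Subgroup G)
  have hJ2 : IsPGroup 2 (thompsonSubgroupOf 2 (S : Subgroup G)) := S.isPGroup'.to_le hJS
  have hJne : thompsonSubgroupOf 2 (S : Subgroup G) ≠ ⊥ := by
    intro h
    exact hLS.2.1 (h ▸ bot_le)
  have hSN : Subgroup.normalizer ((S : Subgroup G) : Set G) ≤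
      Subgroup.normalizer (thompsonSubgroupOf 2 (S : Subgroup G) : Set G) :=
    Cfsg.Agent.Lib.Helper11.normalizer_le_normalizer_thompsonSubgroupOf 2 (S : Subgroup G)
  have hNJ : Subgroup.normalizer (thompsonSubgroupOf 2 (S : Subgroup G) : Set G) ≤ L :=
    hU _ ⟨_, hJ2, hJne, rfl⟩ (Subgroup.le_normalizer.trans hSN)
  -- Step 1: a maximal straddling `T' ≤ S`
  obtain ⟨T', hT', hT'S⟩ :=
    Cfsg.Agent.Lib.Helper96.KS12.exists_maxStraddling_le_sylow hL hN hZ hO S L hLmax.1 hNJ hLS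
  obtain ⟨hT'2, hT'1, hT'L, N, hN2, hT'N, hNL⟩ := hT'.1
  -- Step 2: `T' ≠ S`
  have hne : T' ≠ (S : Subgroup G) := by
    intro h
    exact hNL (hU N hN2 (h ▸ hT'N))
  obtain ⟨K', hK'⟩ := h2949 S L hLmax.1 hNJ T' hT'
  obtain ⟨L', hL'max, hK'L', -, -, hT'L'⟩ := h2950 S L hLmax.1 hNJ T' hT' K' hK'
  have hK'L : ¬ K' ≤ L := hK'.2.1
  have hL'L : ¬ L' ≤ L := fun h => hK'L ((le_sup_left.trans hK'L').trans h)
  have hJT' : thompsonSubgroupOf 2 T' ≤ T' := Cfsg.Agent.Lib.Helper11.thompsonSubgroupOf_le 2 T'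
  -- Step 3
  have hL'j : L' ∈ jOvergroups T' :=
    (h2948 S L hLmax.1 hNJ T' hT' L' hL'max.1 hL'L T' hT'L' hJT').2.2.1
  have hZQ : omegaCenterOf (S : Subgroup G) ≤ pCoreOf 2 L' :=
    (Cfsg.Agent.Lib.Helper2.KS12.omegaCenterOf_sylow_le_VL hT'L' hL'j.2.2 S hT'S).trans
      (Cfsg.Agent.Lib.Helper2.KS12.omegaCenterOf_le _)
  have hUq : Cfsg.Agent.Lib.Helper2.KS12.Uniq L :=
    Cfsg.Agent.Lib.Helper2.KS12.uniq_of_s2950 hL hN hZ hO h2950 S L hLmax.1 hNJ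
  have hZ2 : Nat.card ↥(omegaCenterOf (S : Subgroup G)) = 2 :=
    Cfsg.Agent.Lib.Helper2.KS12.card_omegaCenterOf_sylow_eq_two hL hN hZ S hNJ hUq hT' hT'S hne
      hK' hL'max hK'L'
  have hcard : Nat.card ↥(omegaCenterOf (thompsonSubgroupOf 2 T')) ≤ 4 := by
    rcases hV4 S L hLmax.1 hNJ T' hT' hT'S K' hK' L' hL'max hK'L' hne with ⟨-, h⟩ | ⟨-, h⟩
    · rw [h]; norm_num
    · rw [h]
  exact ⟨hZ2, T', K', L', hT'2, hT'1, hT'S, hT'L, hK'.1.1, hK'L, hL'max, hT'L', hZQ, hcard⟩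

end Cfsg.Agent.Lib.Helper81.KS12
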