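import Mathlib
import Cfsg.Agent.Lib.Helper11.KS12.Perm
import Cfsg.Agent.Lib.Helper81.KS12.S2950Core
import Cfsg.Agent.Lib.Helper2.KS12.PZ
import Cfsg.Agent.Lib.Helper53.Basic

/-!
Kurzweil–Stellmacher chapter 12 cluster, statement S2953, scenario (U): every 2-local subgroup
containing the Sylow 2-subgroup `S` lies in the maximal 2-local `L`.  The library-dependent
hypotheses of helper31's abstract lemma AL (interface of helper34, note 3037):

* `p2_of_U`: (P2) `C_G(u) ≤ N_G(W_K)` for `u ∈ W_K ∖ 1`, `N_G(W_K) ≤ L`, and a central involution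
  of `S` in `W_K`;
* `hno_of_U`: no `c ∈ W_K ∖ 1` is centralized by a subgroup `K' ≰ L`;
* `kp_of_unique`: (KP) a nontrivial `X ≤ T'` normalized by `K'` and `T'` has `N_S(X) ≤ T'`;
* `exists_sq_mem`: an element `x ∈ N_S(T') ∖ T'` with `x² ∈ T'`.
(helper81)
-/

set_option autoImplicit false

namespace Cfsg.Agent.Lib.Helper81.KS12

open Cfsg

variable {G : Type*} [Group G]

/-- `C_G(z) ≤ N_G(⟨z⟩)`. -/
theorem centralizer_singleton_le_normalizer_zpowers (z : G) :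
    Subgroup.centralizer ({z} : Set G) ≤ Subgroup.normalizer (Subgroup.zpowers z : Set G) := by
  intro c hc
  have hcz : Commute c z := by
    have := Subgroup.mem_centralizer_iff.mp hc z (Set.mem_singleton z)
    exact this.symm
  rw [Subgroup.mem_normalizer_iff]
  intro h
  constructor
  · rintro ⟨n, rfl⟩
    refine ⟨n, ?_⟩
    have h1 : Commute c (z ^ n) := hcz.zpow_right n
    calc z ^ n = z ^ n * c * c⁻¹ := by group
      _ = c * z ^ n * c⁻¹ := by rw [h1.eq]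
  · rintro ⟨n, hn⟩
    refine ⟨n, ?_⟩
    have h1 : Commute c (z ^ n) := hcz.zpow_right n
    have hn' : z ^ n = c * h * c⁻¹ := hn
    calc z ^ n = c⁻¹ * (c * z ^ n) := by group
      _ = c⁻¹ * (z ^ n * c) := by rw [h1.eq]
      _ = c⁻¹ * (c * h * c⁻¹ * c) := by rw [hn']
      _ = h := by group

/-- Under (U), the centralizer of a nontrivial central element of the 2-group `S` lies in `L`. -/
theorem centralizer_singleton_le_of_U {S L : Subgroup G} (hS2 : IsPGroup 2 S)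
    (hU : ∀ N : Subgroup G, IsTwoLocal N → S ≤ N → N ≤ L) {z : G} (hzS : z ∈ S) (hz1 : z ≠ 1)
    (hzc : ∀ s ∈ S, s * z = z * s) : Subgroup.centralizer ({z} : Set G) ≤ L := by
  have h1 := centralizer_singleton_le_normalizer_zpowers z
  have h2 : IsTwoLocal (Subgroup.normalizer (Subgroup.zpowers z : Set G)) :=
    ⟨Subgroup.zpowers z, hS2.to_le (Subgroup.zpowers_le.mpr hzS),
      fun h => hz1 (Subgroup.zpowers_eq_bot.mp h), rfl⟩
  have h3 : S ≤ Subgroup.normalizer (Subgroup.zpowers z : Set G) := by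
    intro s hs
    apply h1
    rw [Subgroup.mem_centralizer_iff]
    intro y hy
    rw [Set.mem_singleton_iff] at hy
    subst hy
    exact (hzc s hs).symm
  exact h1.trans (hU _ h2 h3)

/-- **(P2)** Under (U), if `S` normalizes the `J(S)`-component `K ≤ L`: the centralizer of every
non-identity element of `W_K` normalizes `W_K`, `N_G(W_K) ≤ L`, and `W_K` contains a non-identity
central element of `S`. -/
theorem p2_of_U [Finite G] (hL : Cfsg.IsCharacteristicTwoType G)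
    (hN : ∀ N : Subgroup G, Cfsg.IsTwoLocal N → Group.IsSolvable ↥N)
    (hZ : ∀ S : Sylow 2 G, Subgroup.centralizer (Cfsg.omegaCenterOf (S : Subgroup G) : Set G) ≤
      Subgroup.normalizer ((S : Subgroup G) : Set G))
    {S : Sylow 2 G} {L K : Subgroup G} (hLS : L ∈ jOvergroups (S : Subgroup G))
    (hK : IsJComponent (S : Subgroup G) K) (hKL : K ≤ L)
    (hSK : (S : Subgroup G) ≤ Subgroup.normalizer (K : Set G))
    (hU : ∀ N : Subgroup G, IsTwoLocal N → (S : Subgroup G) ≤ N → N ≤ L) :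
    (∀ u ∈ wOf K, u ≠ 1 →
      Subgroup.centralizer ({u} : Set G) ≤ Subgroup.normalizer (wOf K : Set G)) ∧
    Subgroup.normalizer (wOf K : Set G) ≤ L ∧
    (∀ u ∈ wOf K, u ≠ 1 → Subgroup.centralizer ({u} : Set G) ≤ L) ∧
    ∃ z ∈ wOf K, z ≠ 1 ∧ ∀ s ∈ (S : Subgroup G), s * z = z * s := by
  have : Fact (Nat.Prime 2) := ⟨Nat.prime_two⟩
  have hS2 : IsPGroup 2 ↥(S : Subgroup G) := S.isPGroup'
  have hJS : thompsonSubgroupOf 2 (S : Subgroup G) ≤ (S : Subgroup G) :=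
    Cfsg.Agent.Lib.Helper11.thompsonSubgroupOf_le 2 _
  have hS1 : (S : Subgroup G) ≠ ⊥ := by
    intro h
    apply hLS.2.1
    have : thompsonSubgroupOf 2 (S : Subgroup G) = ⊥ := le_bot_iff.mp (h ▸ hJS)
    rw [this]; exact bot_le
  have c := Cfsg.Agent.Lib.Helper71.JC.cfg_of_isJComponent hS2 hK
  have hSW : (S : Subgroup G) ≤ Subgroup.normalizer (wOf K : Set G) :=
    hSK.trans (normalizer_le_normalizer_wOf K)
  have hW2 : IsPGroup 2 ↥(wOf K) := wOf_isPGroup hK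
  have hWS : wOf K ≤ (S : Subgroup G) := by
    have h1 : IsPGroup 2 ↥(wOf K ⊔ (S : Subgroup G)) :=
      IsPGroup.to_sup_of_normal_left' hW2 hS2 hSW
    have h2 := Cfsg.Agent.Lib.Helper2.KS12.le_of_isSylowTwoIn_of_le hLS.1 h1 le_sup_right
      (sup_le ((wOf_le K).trans hKL) hLS.1.1)
    exact le_sup_left.trans h2
  have hNWL : Subgroup.normalizer (wOf K : Set G) ≤ L :=
    hU _ ⟨wOf K, hW2, c.W_ne_bot, rfl⟩ hSW
  obtain ⟨z, hzW, hz1, hzc⟩ :=
    Cfsg.Agent.Lib.Helper53.exists_mem_center_of_normal_subgroup hS2 hWS hSW c.W_ne_bot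
  have hCzL : Subgroup.centralizer ({z} : Set G) ≤ L :=
    centralizer_singleton_le_of_U hS2 hU (hWS hzW) hz1 hzc
  -- `C_G(z) ≤ N_G(K)`
  have hCzK : Subgroup.centralizer ({z} : Set G) ≤ Subgroup.normalizer (K : Set G) := by
    intro x hx
    have hxL : x ∈ L := hCzL hx
    obtain ⟨hK', hK'L⟩ :=
      Cfsg.Agent.Lib.Helper11.KS12.jcomp_conj_of_mem hL hN hZ hS2 hS1 hLS hK hKL hxL
    apply Cfsg.Agent.Lib.Helper11.mem_normalizer_of_map_conj_eq
    by_contra hne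
    have hcent := Cfsg.Agent.Lib.Helper85.KS12.jComp_centralize_wOf hL hN hZ (S : Subgroup G) L
      hS2 hS1 hLS K _ hK hK' hKL hK'L (fun h => hne h.symm)
    have hxz : x * z * x⁻¹ = z := by
      have := Subgroup.mem_centralizer_iff.mp hx z (Set.mem_singleton z)
      calc x * z * x⁻¹ = (z * x) * x⁻¹ := by rw [this]
        _ = z := by group
    have hzW' : z ∈ wOf (K.map (MulAut.conj x).toMonoidHom) := by
      rw [wOf_map]
      refine ⟨z, hzW, ?_⟩
      simpa using hxz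
    have c' := Cfsg.Agent.Lib.Helper71.JC.cfg_of_isJComponent hS2 hK'
    obtain ⟨d, hd, hdR⟩ := c'.exists_d
    apply hz1
    refine c'.hfp d hd hdR z hzW' ?_
    exact Cfsg.Agent.Lib.Helper71.JC.conj_eq_iff_comm.mpr
      (Subgroup.mem_centralizer_iff.mp (hcent hd) z hzW)
  have hCzW : Subgroup.centralizer ({z} : Set G) ≤ Subgroup.normalizer (wOf K : Set G) :=
    hCzK.trans (normalizer_le_normalizer_wOf K)
  -- transport along `K`
  have hconj : ∀ k ∈ K, ∀ u : G, Subgroup.centralizer ({u} : Set G) ≤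
      Subgroup.normalizer (wOf K : Set G) →
      Subgroup.centralizer ({k * u * k⁻¹} : Set G) ≤ Subgroup.normalizer (wOf K : Set G) := by
    intro k hk u hu y hy
    have hkW : k ∈ Subgroup.normalizer (wOf K : Set G) := c.hKW hk
    have h1 : k⁻¹ * y * k ∈ Subgroup.centralizer ({u} : Set G) := by
      rw [Subgroup.mem_centralizer_iff]
      intro v hv
      rw [Set.mem_singleton_iff] at hv
      subst hv
      have := Subgroup.mem_centralizer_iff.mp hy (k * v * k⁻¹) (Set.mem_singleton _)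
      calc v * (k⁻¹ * y * k) = k⁻¹ * ((k * v * k⁻¹) * y) * k := by group
        _ = k⁻¹ * (y * (k * v * k⁻¹)) * k := by rw [this]
        _ = k⁻¹ * y * k * v := by group
    have h2 := hu h1
    have h3 : y = k * (k⁻¹ * y * k) * k⁻¹ := by group
    rw [h3]
    exact Subgroup.mul_mem _ (Subgroup.mul_mem _ hkW h2) (Subgroup.inv_mem _ hkW)
  obtain ⟨d, hd, hdR⟩ := c.exists_d
  obtain ⟨hd3, -⟩ := Cfsg.Agent.Lib.Helper71.JC.q3 c.hRK c.hKR c.hidx hd hdR
  have hdinv : d⁻¹ ∈ K := K.inv_mem hd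
  have hdinvR : d⁻¹ ∉ pCoreOf 2 K := fun h => hdR (by simpa using Subgroup.inv_mem _ h)
  have hd2R : d * d ∉ pCoreOf 2 K := by
    intro h
    apply hdR
    have : d = d ^ 3 * (d * d)⁻¹ := by group
    rw [this]
    exact Subgroup.mul_mem _ hd3 (Subgroup.inv_mem _ h)
  have hz' : d * z * d⁻¹ ∈ wOf K := (Subgroup.mem_normalizer_iff.mp (c.hKW hd) z).mp hzW
  have hz'' : d⁻¹ * z * d⁻¹⁻¹ ∈ wOf K :=
    (Subgroup.mem_normalizer_iff.mp (c.hKW hdinv) z).mp hzW
  have e1 : d * z * d⁻¹ ≠ 1 := by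
    intro h
    apply hz1
    have : z = d⁻¹ * (d * z * d⁻¹) * d := by group
    rw [this, h]; group
  have e2 : d⁻¹ * z * d⁻¹⁻¹ ≠ 1 := by
    intro h
    apply hz1
    have : z = d * (d⁻¹ * z * d⁻¹⁻¹) * d⁻¹ := by group
    rw [this, h]; group
  have e3 : z ≠ d * z * d⁻¹ := fun h => hz1 (c.hfp d hd hdR z hzW h.symm)
  have e4 : z ≠ d⁻¹ * z * d⁻¹⁻¹ := fun h => hz1 (c.hfp d⁻¹ hdinv hdinvR z hzW h.symm)
  have e5 : d * z * d⁻¹ ≠ d⁻¹ * z * d⁻¹⁻¹ := by
    intro h
    apply hz1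
    refine c.hfp (d * d) (K.mul_mem hd hd) hd2R z hzW ?_
    calc d * d * z * (d * d)⁻¹ = d * (d * z * d⁻¹) * d⁻¹ := by group
      _ = d * (d⁻¹ * z * d⁻¹⁻¹) * d⁻¹ := by rw [h]
      _ = z := by group
  have henum := Cfsg.Agent.Lib.Helper71.JC.four_enum c.hW4 hzW hz' hz'' hz1 e1 e2 e3 e4 e5
  have hP2 : ∀ u ∈ wOf K, u ≠ 1 →
      Subgroup.centralizer ({u} : Set G) ≤ Subgroup.normalizer (wOf K : Set G) := by
    intro u hu hu1
    rcases henum u hu with h | h | h | h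
    · exact absurd h hu1
    · rw [h]; exact hCzW
    · rw [h]; exact hconj d hd z hCzW
    · rw [h]; exact hconj d⁻¹ hdinv z hCzW
  exact ⟨hP2, hNWL, fun u hu hu1 => (hP2 u hu hu1).trans hNWL, z, hzW, hz1, hzc⟩

/-- Under (U), no non-identity element of `W_K` is centralized by a subgroup `K' ≰ L`. -/
theorem hno_of_U [Finite G] (hL : Cfsg.IsCharacteristicTwoType G)
    (hN : ∀ N : Subgroup G, Cfsg.IsTwoLocal N → Group.IsSolvable ↥N)
    (hZ : ∀ S : Sylow 2 G, Subgroup.centralizer (Cfsg.omegaCenterOf (S : Subgroup G) : Set G) ≤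
      Subgroup.normalizer ((S : Subgroup G) : Set G))
    {S : Sylow 2 G} {L K K' : Subgroup G} (hLS : L ∈ jOvergroups (S : Subgroup G))
    (hK : IsJComponent (S : Subgroup G) K) (hKL : K ≤ L)
    (hSK : (S : Subgroup G) ≤ Subgroup.normalizer (K : Set G))
    (hU : ∀ N : Subgroup G, IsTwoLocal N → (S : Subgroup G) ≤ N → N ≤ L)
    (hK'L : ¬ K' ≤ L) :
    ∀ c ∈ wOf K, c ≠ 1 → ¬ K' ≤ Subgroup.centralizer ({c} : Set G) :=
  fun c hc hc1 h => hK'L (h.trans ((p2_of_U hL hN hZ hLS hK hKL hSK hU).2.2.1 c hc hc1))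

/-- **(KP)** If `K' ⊔ J(T')` lies in the unique maximal 2-local `L'`, in which `T'` is a Sylow
2-subgroup, and `1 ≠ X ≤ T'` is normalized by `K'` and `T'`, then every element of the 2-group
`S ≥ T'` normalizing `X` lies in `T'`. -/
theorem kp_of_unique [Finite G] {S T' K' L' X : Subgroup G} (hS2 : IsPGroup 2 S)
    (hT'S : T' ≤ S) (hT'L' : IsSylowTwoIn T' L')
    (huniq : ∀ L₁ : Subgroup G, IsMaximalTwoLocal L₁ → K' ⊔ thompsonSubgroupOf 2 T' ≤ L₁ →
      L₁ = L')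
    (hX1 : X ≠ ⊥) (hXT : X ≤ T') (hK'X : K' ≤ Subgroup.normalizer (X : Set G))
    (hT'X : T' ≤ Subgroup.normalizer (X : Set G)) :
    ∀ s ∈ S, s ∈ Subgroup.normalizer (X : Set G) → s ∈ T' := by
  have hX2 : IsPGroup 2 ↥X := (hS2.to_le hT'S).to_le hXT
  obtain ⟨L₁, hL₁, hNL₁⟩ := exists_isMaximalTwoLocal_ge (N := Subgroup.normalizer (X : Set G))
    ⟨X, hX2, hX1, rfl⟩
  have hJT : thompsonSubgroupOf 2 T' ≤ T' := Cfsg.Agent.Lib.Helper11.thompsonSubgroupOf_le 2 T'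
  have hL₁L' : L₁ = L' := huniq L₁ hL₁ ((sup_le hK'X (hJT.trans hT'X)).trans hNL₁)
  have hle : S ⊓ Subgroup.normalizer (X : Set G) ≤ T' :=
    Cfsg.Agent.Lib.Helper2.KS12.le_of_isSylowTwoIn_of_le hT'L' (hS2.to_le inf_le_left)
      (le_inf hT'S hT'X) (inf_le_right.trans (hL₁L' ▸ hNL₁))
  exact fun s hs hsX => hle ⟨hs, hsX⟩

/-- A proper subgroup `T'` of a finite 2-group `S` has an element `x ∈ N_S(T') ∖ T'` with
`x² ∈ T'`. -/
theorem exists_sq_mem [Finite G] {S T' : Subgroup G} (hS2 : IsPGroup 2 S) (hT'S : T' ≤ S)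
    (hne : T' ≠ S) :
    ∃ x ∈ S, x ∈ Subgroup.normalizer (T' : Set G) ∧ x ∉ T' ∧ x * x ∈ T' := by
  have : Fact (Nat.Prime 2) := ⟨Nat.prime_two⟩
  obtain ⟨y, hyS, hyT, hyN⟩ :=
    Cfsg.Agent.Lib.Helper53.exists_mem_normalizer_not_mem hS2 (lt_of_le_of_ne hT'S hne)
  have hex : ∃ n : ℕ, y ^ 2 ^ n ∈ T' := by
    obtain ⟨k, hk⟩ := hS2 ⟨y, hyS⟩
    refine ⟨k, ?_⟩
    have h1 : y ^ 2 ^ k = 1 := by
      have := congrArg Subtype.val hk
      simpa using this
    rw [h1]; exact T'.one_mem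
  classical
  have hn0 : Nat.find hex ≠ 0 := by
    intro h0
    have := Nat.find_spec hex
    rw [h0] at this
    simp at this
    exact hyT this
  obtain ⟨m, hm⟩ := Nat.exists_eq_succ_of_ne_zero hn0
  have hmin : y ^ 2 ^ m ∉ T' := Nat.find_min hex (by omega)
  have hspec : y ^ 2 ^ (m + 1) ∈ T' := by
    have := Nat.find_spec hex
    rwa [hm] at this
  refine ⟨y ^ 2 ^ m, S.pow_mem hyS _, Subgroup.pow_mem _ hyN _, hmin, ?_⟩
  have e : y ^ 2 ^ m * y ^ 2 ^ m = y ^ 2 ^ (m + 1) := by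
    rw [← pow_add, pow_succ]; congr 1; omega
  rw [e]; exact hspec

end Cfsg.Agent.Lib.Helper81.KS12
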