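import Mathlib
import Cfsg.Statements.S2943
import Cfsg.Statements.S2950
import Cfsg.Statements.S2951
import Cfsg.Statements.S2952
import Cfsg.Agent.Lib.Helper81.KS12.JCompConj
import Cfsg.Agent.Lib.Helper97.KS12.S2948Core

/-!
Kurzweil–Stellmacher chapter 12 cluster: statement S2952 (`K` is normal in `⟨K, T⟩`), derived
from the statements S2943, S2950 and S2951.  (helper81)

Idea: conjugate `(T, K)` by an element of `M` into the Sylow 2-subgroup `S`.  S2950 gives the
maximal 2-local `L ≥ ⟨K, J(T)⟩` with `T` Sylow in `L`; S2951 gives `Z₀ ∩ W_K ≠ 1` and, in each of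
its three alternatives, `Z₀ ≤ Z(T)`; S2943 then gives `T ≤ N_G(K)`.

The file also contains general transport lemmas for `J(T)`-components along automorphisms.
-/

set_option autoImplicit false

namespace Cfsg.Agent.Lib.Helper81.KS12

open Cfsg
open scoped Pointwise

variable {G : Type*} [Group G]

theorem map_symm_map (φ : G ≃* G) (S : Subgroup G) :
    (S.map φ.symm.toMonoidHom).map φ.toMonoidHom = S := by
  rw [Subgroup.map_map]
  have : φ.toMonoidHom.comp φ.symm.toMonoidHom = MonoidHom.id G := by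
    ext x; simp
  rw [this, Subgroup.map_id]

theorem map_map_symm (φ : G ≃* G) (S : Subgroup G) :
    (S.map φ.toMonoidHom).map φ.symm.toMonoidHom = S := by
  rw [Subgroup.map_map]
  have : φ.symm.toMonoidHom.comp φ.toMonoidHom = MonoidHom.id G := by
    ext x; simp
  rw [this, Subgroup.map_id]

/-- Transport of `IsSylowTwoIn` along an automorphism. -/
theorem isSylowTwoIn_map {S X : Subgroup G} (h : IsSylowTwoIn S X) (φ : G ≃* G) :
    IsSylowTwoIn (S.map φ.toMonoidHom) (X.map φ.toMonoidHom) := by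
  obtain ⟨h1, h2, h3⟩ := h
  have hinj : Function.Injective φ.toMonoidHom := φ.injective
  refine ⟨Subgroup.map_mono h1, h2.map _, ?_⟩
  rw [Subgroup.relIndex_map_map_of_injective _ _ hinj]
  exact h3

/-- Transport of a `J(T)`-component along an arbitrary automorphism. -/
theorem isJComponent_map_equiv {T K : Subgroup G} (hK : IsJComponent T K) (φ : G ≃* G) :
    IsJComponent (T.map φ.toMonoidHom) (K.map φ.toMonoidHom) := by
  obtain ⟨h1, h2, h3, h4, h5, h6⟩ := hK
  have hinj : Function.Injective φ.toMonoidHom := φ.injective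
  have hJ : thompsonSubgroupOf 2 (T.map φ.toMonoidHom) =
      (thompsonSubgroupOf 2 T).map φ.toMonoidHom :=
    Cfsg.Agent.Lib.Helper11.thompsonSubgroupOf_map 2 φ.toMonoidHom hinj T
  unfold IsJComponent
  rw [hJ]
  refine ⟨?_, ?_, ?_, ?_, ?_, ?_⟩
  · have hset : {g : G | g ∈ K.map φ.toMonoidHom ∧ Odd (orderOf g)} =
        φ.toMonoidHom '' {g : G | g ∈ K ∧ Odd (orderOf g)} := by
      ext y
      constructor
      · rintro ⟨⟨x, hx, rfl⟩, hodd⟩
        refine ⟨x, ⟨hx, ?_⟩, rfl⟩
        have : orderOf (φ.toMonoidHom x) = orderOf x := orderOf_injective φ.toMonoidHom hinj x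
        rwa [this] at hodd
      · rintro ⟨x, ⟨hx, hodd⟩, rfl⟩
        refine ⟨⟨x, hx, rfl⟩, ?_⟩
        have : orderOf (φ.toMonoidHom x) = orderOf x := orderOf_injective φ.toMonoidHom hinj x
        rwa [this]
    rw [hset, ← MonoidHom.map_closure, h1]
  · rw [← Subgroup.map_commutator, h2]
  · rw [Cfsg.Agent.Lib.Helper46.pCoreOf_map, Subgroup.relIndex_map_map_of_injective _ _ hinj]
    exact h3
  · intro S hS hJS
    have hS' : IsSylowTwoIn (S.map φ.symm.toMonoidHom) (K ⊔ thompsonSubgroupOf 2 T) := by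
      have := isSylowTwoIn_map hS φ.symm
      rwa [Subgroup.map_sup, map_map_symm, map_map_symm] at this
    have hJS' : thompsonSubgroupOf 2 T ≤ S.map φ.symm.toMonoidHom := by
      have := Subgroup.map_mono (f := φ.symm.toMonoidHom) hJS
      rwa [map_map_symm] at this
    have h7 := h4 _ hS' hJS'
    rw [← map_symm_map φ S, Cfsg.Agent.Lib.Helper11.thompsonSubgroupOf_map 2 φ.toMonoidHom hinj,
      h7]
  · rw [wOf_map, Subgroup.card_map_of_injective hinj]
    exact h5
  · rw [wOf_map]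
    rintro _ ⟨w, hw, rfl⟩
    have := h6 w hw
    have h8 := congrArg φ.toMonoidHom this
    simpa using h8

/-- Transport of the family `jComponentsZero` along an automorphism. -/
theorem jComponentsZero_map {T K : Subgroup G} (hK : K ∈ jComponentsZero T) (φ : G ≃* G) :
    K.map φ.toMonoidHom ∈ jComponentsZero (T.map φ.toMonoidHom) := by
  obtain ⟨hK1, hK2⟩ := hK
  refine ⟨isJComponent_map_equiv hK1 φ, ?_⟩
  have hinj : Function.Injective φ.toMonoidHom := φ.injective
  have hJ : thompsonSubgroupOf 2 (T.map φ.toMonoidHom) =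
      (thompsonSubgroupOf 2 T).map φ.toMonoidHom :=
    Cfsg.Agent.Lib.Helper11.thompsonSubgroupOf_map 2 φ.toMonoidHom hinj T
  intro S hJS hS
  rw [hJ] at hJS ⊢
  have hJS' : thompsonSubgroupOf 2 T ≤ S.map φ.symm.toMonoidHom := by
    have := Subgroup.map_mono (f := φ.symm.toMonoidHom) hJS
    rwa [map_map_symm] at this
  have hS' : IsSylowTwoIn (S.map φ.symm.toMonoidHom) (Subgroup.normalizer (wOf K : Set G)) := by
    have := isSylowTwoIn_map hS φ.symm
    rwa [wOf_map, ← Subgroup.map_equiv_normalizer_eq, map_map_symm] at this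
  have h7 := hK2 _ hJS' hS'
  rw [← map_symm_map φ S, Cfsg.Agent.Lib.Helper11.thompsonSubgroupOf_map 2 φ.toMonoidHom hinj, h7]

/-- Conjugation by an element of `M` preserves the family `jComponentsOutside M ·`. -/
theorem jComponentsOutside_map_conj {M T K : Subgroup G} {m : G} (hm : m ∈ M)
    (hK : K ∈ jComponentsOutside M T) :
    K.map (MulAut.conj m).toMonoidHom ∈
      jComponentsOutside M (T.map (MulAut.conj m).toMonoidHom) := by
  obtain ⟨hK0, hKM, hKO⟩ := hK
  refine ⟨jComponentsZero_map hK0 _, ?_, ?_⟩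
  · intro h
    apply hKM
    intro k hk
    have h1 : m * k * m⁻¹ ∈ M := h ⟨k, hk, by simp [MulAut.conj_apply]⟩
    have h2 : k = m⁻¹ * (m * k * m⁻¹) * m := by group
    rw [h2]
    exact M.mul_mem (M.mul_mem (M.inv_mem hm) h1) hm
  · rw [← Subgroup.map_sup, Cfsg.Agent.Lib.Helper46.pCoreOf_map]
    intro h
    apply hKO
    exact (Subgroup.map_eq_bot_iff_of_injective _ (MulAut.conj m).injective).mp h

theorem omegaCenterOf_le_inf (X : Subgroup G) :
    omegaCenterOf X ≤ X ⊓ Subgroup.centralizer (X : Set G) := by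
  unfold omegaCenterOf omegaOne
  rw [Subgroup.closure_le]
  intro x hx
  exact hx.1

/-- A 2-subgroup of `M` is `M`-conjugate into a Sylow 2-subgroup of `G` lying in `M`. -/
theorem exists_conj_le_sylow [Finite G] {M T : Subgroup G} (S : Sylow 2 G)
    (hSM : (S : Subgroup G) ≤ M) (hT : IsPGroup 2 T) (hTM : T ≤ M) :
    ∃ m ∈ M, T.map (MulAut.conj m).toMonoidHom ≤ (S : Subgroup G) := by
  have : Fact (Nat.Prime 2) := ⟨Nat.prime_two⟩
  obtain ⟨Q, hQ⟩ := (hT.comap_subtype (K := M)).exists_le_sylow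
  obtain ⟨g, hg⟩ := MulAction.exists_smul_eq M Q (S.subtype hSM)
  refine ⟨g, g.2, ?_⟩
  rintro _ ⟨t, ht, rfl⟩
  have h1 : (⟨t, hTM ht⟩ : M) ∈ (Q : Subgroup M) := hQ (by exact ht)
  have h3 : ((g • Q : Sylow 2 M) : Subgroup M) = MulAut.conj g • (Q : Subgroup M) :=
    Sylow.coe_subgroup_smul
  have h2 : MulAut.conj g • (⟨t, hTM ht⟩ : M) ∈ MulAut.conj g • (Q : Subgroup M) :=
    Subgroup.smul_mem_pointwise_smul _ _ _ h1
  rw [← h3, hg, Sylow.coe_subtype, Subgroup.mem_subgroupOf] at h2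
  simpa [MulAut.conj_apply] using h2

/-- **Core of S2952**: from S2943, S2950, S2951 and the invariance of
`maxStraddlingTwoSubgroups M` under conjugation by elements of `M`. -/
theorem s2952_core_of_conj [Finite G] (hL : Cfsg.IsCharacteristicTwoType G)
    (hN : ∀ N : Subgroup G, Cfsg.IsTwoLocal N → Group.IsSolvable ↥N)
    (hZ : ∀ S : Sylow 2 G, Subgroup.centralizer (Cfsg.omegaCenterOf (S : Subgroup G) : Set G) ≤
      Subgroup.normalizer ((S : Subgroup G) : Set G))
    (hO : Cfsg.pCore 2 G = ⊥)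
    (h2943 : type_of% (@Cfsg.CfsgFrozen.S2943 G _ _ hL hN hZ))
    (h2950 : type_of% (@Cfsg.CfsgFrozen.S2950 G _ _ hL hN hZ hO))
    (h2951 : type_of% (@Cfsg.CfsgFrozen.S2951 G _ _ hL hN hZ hO))
    (S : Sylow 2 G) (M : Subgroup G) (hM : Cfsg.IsTwoLocal M)
    (hMJ : Subgroup.normalizer (Cfsg.thompsonSubgroupOf 2 (S : Subgroup G) : Set G) ≤ M)
    (hConj : ∀ (T : Subgroup G) (m : G), m ∈ M → T ∈ maxStraddlingTwoSubgroups M →
      T.map (MulAut.conj m).toMonoidHom ∈ maxStraddlingTwoSubgroups M)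
    (T : Subgroup G) (hT : T ∈ Cfsg.maxStraddlingTwoSubgroups M)
    (K : Subgroup G) (hK : K ∈ Cfsg.jComponentsOutside M T) :
    (K.subgroupOf (K ⊔ T)).Normal := by
  -- the case `T ≤ S`
  have key : ∀ T K : Subgroup G, T ∈ maxStraddlingTwoSubgroups M → T ≤ (S : Subgroup G) →
      K ∈ jComponentsOutside M T → T ≤ Subgroup.normalizer (K : Set G) := by
    intro T K hT hTS hK
    obtain ⟨L, hLmax, hKL, -, -, hTL⟩ := h2950 S M hM hMJ T hT K hK
    obtain ⟨hT2, hT1, hTM, -⟩ := hT.1
    have hKc : IsJComponent T K := hK.1.1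
    have hKM : ¬ K ≤ M := hK.2.1
    have hJT : thompsonSubgroupOf 2 T ≤ T := Cfsg.Agent.Lib.Helper11.thompsonSubgroupOf_le 2 T
    have hLM : ¬ L ≤ M := fun h => hKM ((le_sup_left.trans hKL).trans h)
    have hLjT : L ∈ jOvergroups T :=
      (Cfsg.Agent.Lib.Helper97.KS12.s2948_core hL S M hMJ T hT L hLmax.1 hLM T hTL hJT).2.2.2
        hTL.1
    obtain ⟨hW, hcases⟩ := h2951 S M hM hMJ T hT hTS K hK L hLmax hKL _ _ rfl rfl
    have hZ0T : omegaCenterOf (thompsonSubgroupOf 2 T) ≤ T :=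
      ((omegaCenterOf_le_inf _).trans inf_le_left).trans hJT
    have hZS : omegaCenterOf (S : Subgroup G) ≤ Subgroup.centralizer (T : Set G) :=
      ((omegaCenterOf_le_inf _).trans inf_le_right).trans (Subgroup.centralizer_le hTS)
    have hZ0 : omegaCenterOf (thompsonSubgroupOf 2 T) ≤ T ⊓ Subgroup.centralizer (T : Set G) := by
      rcases hcases with ⟨h1, -⟩ | ⟨h1, -, -⟩ | ⟨h1, -, -⟩
      · refine le_inf hZ0T ?_
        rw [← h1]
        exact hZS
      · refine le_inf hZ0T ?_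
        rw [← h1]
        exact hZS
      · rw [← h1]
        exact omegaCenterOf_le_inf T
    have hZW : T ⊓ Subgroup.centralizer (T : Set G) ⊓ wOf K ≠ ⊥ := by
      intro h
      apply hW
      rw [eq_bot_iff, ← h]
      exact inf_le_inf_right _ hZ0
    exact h2943 T hT2 hT1 L hLjT K hKc (le_sup_left.trans hKL) hZW
  -- the general case
  obtain ⟨hT2, hT1, hTM, -⟩ := hT.1
  have hSN : Subgroup.normalizer ((S : Subgroup G) : Set G) ≤
      Subgroup.normalizer (thompsonSubgroupOf 2 (S : Subgroup G) : Set G) :=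
    Cfsg.Agent.Lib.Helper11.normalizer_le_normalizer_thompsonSubgroupOf 2 (S : Subgroup G)
  have hSM : (S : Subgroup G) ≤ M := (Subgroup.le_normalizer.trans hSN).trans hMJ
  obtain ⟨m, hm, hmS⟩ := exists_conj_le_sylow S hSM hT2 hTM
  have h1 := key _ _ (hConj T m hm hT) hmS (jComponentsOutside_map_conj hm hK)
  have h2 : T ≤ Subgroup.normalizer (K : Set G) := by
    rw [← Subgroup.map_equiv_normalizer_eq] at h1
    exact (Subgroup.map_le_map_iff_of_injective (MulAut.conj m).injective).mp h1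
  exact Subgroup.normal_subgroupOf_of_le_normalizer (sup_le Subgroup.le_normalizer h2)

/-- Transport of 2-locality along an automorphism. -/
theorem isTwoLocal_map {N : Subgroup G} (hN : IsTwoLocal N) (φ : G ≃* G) :
    IsTwoLocal (N.map φ.toMonoidHom) := by
  obtain ⟨P, hP, hP1, rfl⟩ := hN
  refine ⟨P.map φ.toMonoidHom, hP.map _, ?_, Subgroup.map_equiv_normalizer_eq P φ⟩
  intro h
  exact hP1 ((Subgroup.map_eq_bot_iff_of_injective _ φ.injective).mp h)

/-- Conjugation by an element of `M` preserves `straddlingTwoSubgroups M`. -/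
theorem straddling_map_conj {M T : Subgroup G} {m : G} (hm : m ∈ M)
    (hT : T ∈ straddlingTwoSubgroups M) :
    T.map (MulAut.conj m).toMonoidHom ∈ straddlingTwoSubgroups M := by
  obtain ⟨hT2, hT1, hTM, L, hL2, hTL, hLM⟩ := hT
  refine ⟨hT2.map _, ?_, ?_, L.map (MulAut.conj m).toMonoidHom, isTwoLocal_map hL2 _,
    Subgroup.map_mono hTL, ?_⟩
  · intro h
    exact hT1 ((Subgroup.map_eq_bot_iff_of_injective _ (MulAut.conj m).injective).mp h)
  · rintro _ ⟨t, ht, rfl⟩
    simp only [MulEquiv.coe_toMonoidHom, MulAut.conj_apply]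
    exact M.mul_mem (M.mul_mem hm (hTM ht)) (M.inv_mem hm)
  · intro h
    apply hLM
    intro l hl
    have h1 : m * l * m⁻¹ ∈ M := h ⟨l, hl, by simp [MulAut.conj_apply]⟩
    have h2 : l = m⁻¹ * (m * l * m⁻¹) * m := by group
    rw [h2]
    exact M.mul_mem (M.mul_mem (M.inv_mem hm) h1) hm

theorem maxElemAbelianOrder_map [Finite G] (T : Subgroup G) (φ : G ≃* G) :
    maxElemAbelianOrder (T.map φ.toMonoidHom) = maxElemAbelianOrder T := by
  have hinj : Function.Injective φ.toMonoidHom := φ.injective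
  obtain ⟨A, hA⟩ := Cfsg.Agent.Lib.Helper11.maxElemAbIn_nonempty 2 T
  have hA' : A.map φ.toMonoidHom ∈
      Cfsg.Agent.Lib.Helper11.maxElemAbIn 2 (T.map φ.toMonoidHom) := by
    rw [Cfsg.Agent.Lib.Helper11.maxElemAbIn_map 2 φ.toMonoidHom hinj]
    exact ⟨A, hA, rfl⟩
  rw [Cfsg.Agent.Lib.Helper97.KS12.maxElemAbelianOrder_eq hA,
    Cfsg.Agent.Lib.Helper97.KS12.maxElemAbelianOrder_eq hA',
    Subgroup.card_map_of_injective hinj]

/-- Conjugation by an element of `M` preserves `maxStraddlingTwoSubgroups M`. -/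
theorem maxStraddling_map_conj [Finite G] {M T : Subgroup G} {m : G} (hm : m ∈ M)
    (hT : T ∈ maxStraddlingTwoSubgroups M) :
    T.map (MulAut.conj m).toMonoidHom ∈ maxStraddlingTwoSubgroups M := by
  have hinj : Function.Injective (MulAut.conj m).toMonoidHom := (MulAut.conj m).injective
  refine ⟨straddling_map_conj hm hT.1, ?_⟩
  intro T' hT'
  have h := hT.2 T' hT'
  rw [maxElemAbelianOrder_map, Cfsg.Agent.Lib.Helper11.thompsonSubgroupOf_map 2 _ hinj,
    Subgroup.card_map_of_injective hinj, Subgroup.card_map_of_injective hinj]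
  exact h

/-- **Core of S2952**: from S2943, S2950 and S2951. -/
theorem s2952_core [Finite G] (hL : Cfsg.IsCharacteristicTwoType G)
    (hN : ∀ N : Subgroup G, Cfsg.IsTwoLocal N → Group.IsSolvable ↥N)
    (hZ : ∀ S : Sylow 2 G, Subgroup.centralizer (Cfsg.omegaCenterOf (S : Subgroup G) : Set G) ≤
      Subgroup.normalizer ((S : Subgroup G) : Set G))
    (hO : Cfsg.pCore 2 G = ⊥)
    (h2943 : type_of% (@Cfsg.CfsgFrozen.S2943 G _ _ hL hN hZ))
    (h2950 : type_of% (@Cfsg.CfsgFrozen.S2950 G _ _ hL hN hZ hO))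
    (h2951 : type_of% (@Cfsg.CfsgFrozen.S2951 G _ _ hL hN hZ hO))
    (S : Sylow 2 G) (M : Subgroup G) (hM : Cfsg.IsTwoLocal M)
    (hMJ : Subgroup.normalizer (Cfsg.thompsonSubgroupOf 2 (S : Subgroup G) : Set G) ≤ M)
    (T : Subgroup G) (hT : T ∈ Cfsg.maxStraddlingTwoSubgroups M)
    (K : Subgroup G) (hK : K ∈ Cfsg.jComponentsOutside M T) :
    (K.subgroupOf (K ⊔ T)).Normal :=
  s2952_core_of_conj hL hN hZ hO h2943 h2950 h2951 S M hM hMJ
    (fun _ _ hm hT => maxStraddling_map_conj hm hT) T hT K hK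

end Cfsg.Agent.Lib.Helper81.KS12
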