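import Mathlib
import Cfsg.Agent.S2949
import Cfsg.Agent.S2951
import Cfsg.Agent.Lib.Helper23.KS12.GenPL
import Cfsg.Agent.Lib.Helper23.KS12.V5
import Cfsg.Agent.Lib.Helper54.KS12.SupCore
import Cfsg.Agent.Lib.Helper21.KS12.S2953CJ
import Cfsg.Agent.Lib.Helper97.KS12.S2953CJ
import Cfsg.Agent.Lib.Helper81.KS12.S2953UG

/-!
Kurzweil–Stellmacher chapter 12 cluster, statement S2953: the final case assembly (helper81).

`s2953_of_notU`: S2953 from the impossibility of scenario (U) (`T = S` and every 2-local subgroup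
containing `S` lies in the maximal 2-local `L ⊇ K ⊔ J(S)`), following helper31's note 2993:
(a) `T < S`: second component `K^x`, `x ∈ N_S(T) ∖ T`;
(b) `T = S`, `N_G(S) ≰ L`: second component `K^x`, `x ∈ N_G(S) ∖ L`;
(c) `T = S`, `N_G(S) ≤ L`, some 2-local over `S` not in `L`: second component from `K*(L, S)`.
-/

set_option autoImplicit false

namespace Cfsg.Agent.Lib.Helper81.KS12

open Cfsg

universe u
variable {G : Type u} [Group G]

/-- Package (G): the six per-`P` clauses of S2953 for `P = K ⊔ T`. -/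
theorem genP_closed [Finite G] (hL : IsCharacteristicTwoType G)
    (hN : ∀ N : Subgroup G, IsTwoLocal N → Group.IsSolvable ↥N)
    (hZ : ∀ S : Sylow 2 G, Subgroup.centralizer (omegaCenterOf (S : Subgroup G) : Set G) ≤
      Subgroup.normalizer ((S : Subgroup G) : Set G))
    (hO : pCore 2 G = ⊥) (S : Sylow 2 G) (M : Subgroup G) (hM : IsTwoLocal M)
    (hMJ : Subgroup.normalizer (thompsonSubgroupOf 2 (S : Subgroup G) : Set G) ≤ M)
    (T : Subgroup G) (hT : T ∈ maxStraddlingTwoSubgroups M) (K : Subgroup G)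
    (hK : K ∈ jComponentsOutside M T) :
    Subgroup.centralizer (pCoreOf 2 (K ⊔ T) : Set G) ≤ pCoreOf 2 (K ⊔ T) ∧
    IsSylowTwoIn T (K ⊔ T) ∧
    (pCoreOf 2 (K ⊔ T)).relIndex (K ⊔ T) = 6 ∧ ¬ ⁅K ⊔ T, K ⊔ T⁆ ≤ pCoreOf 2 (K ⊔ T) ∧
    ⁅omegaCenterOf T, K ⊔ T⁆ ≠ ⊥ ∧
    ∃ L : Subgroup G, IsMaximalTwoLocal L ∧ K ⊔ T ≤ L ∧ IsSylowTwoIn T L ∧
      ∀ L' : Subgroup G, IsMaximalTwoLocal L' → K ⊔ T ≤ L' → L' = L := by
  obtain ⟨-, hKJ, hTK, -, hTP, -⟩ :=
    Cfsg.Agent.Lib.Helper23.KS12.genP_L hL hN hZ hO S M hM hMJ T hT K hK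
  obtain ⟨h3, h4, h5⟩ := Cfsg.Agent.Lib.Helper54.KS12.sup_core hKJ hTK hTP
  exact Cfsg.Agent.Lib.Helper23.KS12.genP_of_core hL hN hZ hO S M hM hMJ T hT K hK h3 h4 h5

/-- A Sylow 2-subgroup `S ≤ M` contained in a 2-local subgroup not inside `M` is a maximal
straddling 2-subgroup of `M`. -/
theorem sylow_mem_maxStraddling_of_le [Finite G] (S : Sylow 2 G) (hS1 : (S : Subgroup G) ≠ ⊥)
    {M N : Subgroup G} (hSM : (S : Subgroup G) ≤ M) (hN : IsTwoLocal N)
    (hSN : (S : Subgroup G) ≤ N) (hNM : ¬ N ≤ M) :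
    (S : Subgroup G) ∈ maxStraddlingTwoSubgroups M := by
  have : Fact (Nat.Prime 2) := ⟨Nat.prime_two⟩
  refine ⟨⟨S.isPGroup', hS1, hSM, N, hN, hSN, hNM⟩, fun T hT => ?_⟩
  obtain ⟨hT2, -, -, -⟩ := hT
  obtain ⟨n, hn⟩ := Cfsg.Agent.Lib.Helper53.exists_conj_le_sylow S hT2
  have hT'S : T.map (MulAut.conj n).toMonoidHom ≤ (S : Subgroup G) := by
    rintro _ ⟨q, hq, rfl⟩
    exact hn q hq
  have hJT' : thompsonSubgroupOf 2 (T.map (MulAut.conj n).toMonoidHom) ≤ (S : Subgroup G) :=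
    (Cfsg.Agent.Lib.Helper11.thompsonSubgroupOf_le 2 _).trans hT'S
  have ha : maxElemAbelianOrder T ≤ maxElemAbelianOrder (S : Subgroup G) := by
    rw [← Cfsg.Agent.Lib.Helper23.KS12.maxElemAbelianOrder_map_conj T n]
    exact Cfsg.Agent.Lib.Helper97.KS12.maxElemAbelianOrder_le_of_thompson_le hJT'
  refine ⟨ha, fun heq => ?_⟩
  have hJle : thompsonSubgroupOf 2 (T.map (MulAut.conj n).toMonoidHom) ≤
      thompsonSubgroupOf 2 (S : Subgroup G) :=
    Cfsg.Agent.Lib.Helper97.KS12.thompson_le_thompson_of_le hJT'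
      (by rw [Cfsg.Agent.Lib.Helper23.KS12.maxElemAbelianOrder_map_conj, heq])
  have hcJ : Nat.card (thompsonSubgroupOf 2 T) ≤
      Nat.card (thompsonSubgroupOf 2 (S : Subgroup G)) := by
    have h := Subgroup.card_le_of_le hJle
    rwa [Cfsg.Agent.Lib.Helper11.thompsonSubgroupOf_map 2 _ (MulAut.conj n).injective,
      Subgroup.card_map_of_injective (MulAut.conj n).injective] at h
  refine ⟨hcJ, fun _ => ?_⟩
  have h := Subgroup.card_le_of_le hT'S
  rwa [Subgroup.card_map_of_injective (MulAut.conj n).injective] at h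

/-- `N_G(Ω₁(Z(S))) ≤ N_G(S)` for a Sylow 2-subgroup `S` with `C_G(Ω₁(Z(S))) ≤ N_G(S)`. -/
theorem normalizer_omegaCenterOf_le_normalizer_sylow [Finite G] (S : Sylow 2 G)
    (hZS : Subgroup.centralizer (omegaCenterOf (S : Subgroup G) : Set G) ≤
      Subgroup.normalizer ((S : Subgroup G) : Set G)) :
    Subgroup.normalizer (omegaCenterOf (S : Subgroup G) : Set G) ≤
      Subgroup.normalizer ((S : Subgroup G) : Set G) := by
  have : Fact (Nat.Prime 2) := ⟨Nat.prime_two⟩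
  intro g hg
  have hSC : (S : Subgroup G) ≤ Subgroup.centralizer (omegaCenterOf (S : Subgroup G) : Set G) := by
    intro s hs
    rw [Subgroup.mem_centralizer_iff]
    intro y hy
    have := Cfsg.Agent.Lib.Helper2.KS12.omegaCenterOf_le_centralizer (S : Subgroup G) hy
    exact (Subgroup.mem_centralizer_iff.mp this s hs).symm
  -- the conjugate of `S` by `g` centralizes `Ω₁(Z(S))`, hence normalizes `S`
  have hmapC : (S : Subgroup G).map (MulAut.conj g).toMonoidHom ≤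
      Subgroup.centralizer (omegaCenterOf (S : Subgroup G) : Set G) := by
    rintro _ ⟨s, hs, rfl⟩
    rw [Subgroup.mem_centralizer_iff]
    intro y hy
    have hy' : g⁻¹ * y * g ∈ omegaCenterOf (S : Subgroup G) := by
      have := (Subgroup.mem_normalizer_iff.mp (Subgroup.inv_mem _ hg) y).mp hy
      simpa using this
    have h1 := Subgroup.mem_centralizer_iff.mp (hSC hs) _ hy'
    show y * (g * s * g⁻¹) = g * s * g⁻¹ * y
    calc y * (g * s * g⁻¹) = g * ((g⁻¹ * y * g) * s) * g⁻¹ := by group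
      _ = g * (s * (g⁻¹ * y * g)) * g⁻¹ := by rw [h1]
      _ = g * s * g⁻¹ * y := by group
  have hmapN := hmapC.trans hZS
  have hP2 : IsPGroup 2 ↥((S : Subgroup G).map (MulAut.conj g).toMonoidHom) :=
    S.isPGroup'.map _
  have hsup : IsPGroup 2 ↥((S : Subgroup G) ⊔ (S : Subgroup G).map (MulAut.conj g).toMonoidHom) :=
    IsPGroup.to_sup_of_normal_left' S.isPGroup' hP2 hmapN
  have heq := S.is_maximal' hsup le_sup_left
  have hle : (S : Subgroup G).map (MulAut.conj g).toMonoidHom ≤ (S : Subgroup G) := by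
    calc (S : Subgroup G).map (MulAut.conj g).toMonoidHom
        ≤ (S : Subgroup G) ⊔ (S : Subgroup G).map (MulAut.conj g).toMonoidHom := le_sup_right
      _ = (S : Subgroup G) := heq
  apply Cfsg.Agent.Lib.Helper11.mem_normalizer_of_map_conj_eq
  exact Subgroup.eq_of_le_of_card_ge hle
    (by rw [Subgroup.card_map_of_injective (MulAut.conj g).injective])

/-- A Sylow 2-subgroup `S'` containing the 2-subgroup `T ≤ M`, with `N_G(J(S')) ≤ M`. -/
theorem exists_sylow_ge [Finite G] (S : Sylow 2 G) {M T : Subgroup G}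
    (hMJ : Subgroup.normalizer (thompsonSubgroupOf 2 (S : Subgroup G) : Set G) ≤ M)
    (hT2 : IsPGroup 2 T) (hTM : T ≤ M) :
    ∃ S' : Sylow 2 G, T ≤ (S' : Subgroup G) ∧
      Subgroup.normalizer (thompsonSubgroupOf 2 (S' : Subgroup G) : Set G) ≤ M := by
  have : Fact (Nat.Prime 2) := ⟨Nat.prime_two⟩
  have hSM : (S : Subgroup G) ≤ M :=
    Cfsg.Agent.Lib.Helper2.KS12.sylow_le_of_normalizer_thompson_le S hMJ
  obtain ⟨m, hm, hTm⟩ := exists_conj_le_sylow S hSM hT2 hTM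
  have hcoe : ((MulAut.conj m⁻¹ • S : Sylow 2 G) : Subgroup G) =
      (S : Subgroup G).map (MulAut.conj m⁻¹).toMonoidHom := rfl
  refine ⟨MulAut.conj m⁻¹ • S, ?_, ?_⟩
  · rw [hcoe]
    intro t ht
    refine ⟨m * t * m⁻¹, hTm ⟨t, ht, by simp [MulAut.conj_apply]⟩, ?_⟩
    simp only [MulEquiv.coe_toMonoidHom, MulAut.conj_apply]
    group
  · rw [hcoe, Cfsg.Agent.Lib.Helper11.thompsonSubgroupOf_map 2 _ (MulAut.conj m⁻¹).injective,
      ← Subgroup.map_equiv_normalizer_eq]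
    rintro _ ⟨g, hg, rfl⟩
    have hgM : g ∈ M := hMJ hg
    simp only [MulEquiv.coe_toMonoidHom, MulAut.conj_apply]
    exact M.mul_mem (M.mul_mem (M.inv_mem hm) hgM) (by simpa using hm)

/-- **(F)** S2953 from the impossibility of scenario (U). -/
theorem s2953_of_notU [Finite G] (hL : IsCharacteristicTwoType G)
    (hN : ∀ N : Subgroup G, IsTwoLocal N → Group.IsSolvable ↥N)
    (hZ : ∀ S : Sylow 2 G, Subgroup.centralizer (omegaCenterOf (S : Subgroup G) : Set G) ≤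
      Subgroup.normalizer ((S : Subgroup G) : Set G))
    (hO : pCore 2 G = ⊥)
    (hnotU : ∀ (S : Sylow 2 G) (M : Subgroup G), IsTwoLocal M →
      Subgroup.normalizer (thompsonSubgroupOf 2 (S : Subgroup G) : Set G) ≤ M →
      (S : Subgroup G) ∈ maxStraddlingTwoSubgroups M →
      ∀ K : Subgroup G, K ∈ jComponentsOutside M (S : Subgroup G) →
      ∀ L : Subgroup G, IsMaximalTwoLocal L → K ⊔ thompsonSubgroupOf 2 (S : Subgroup G) ≤ L →
      ¬ ∀ N : Subgroup G, IsTwoLocal N → (S : Subgroup G) ≤ N → N ≤ L)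
    (S : Sylow 2 G) (M : Subgroup G) (hM : IsTwoLocal M)
    (hMJ : Subgroup.normalizer (thompsonSubgroupOf 2 (S : Subgroup G) : Set G) ≤ M)
    (T : Subgroup G) (hT : T ∈ maxStraddlingTwoSubgroups M) :
    ∃ K₁ K₂ : Subgroup G, K₁ ≠ K₂ ∧ IsJComponent T K₁ ∧ IsJComponent T K₂ ∧
      pCoreOf 2 ((K₁ ⊔ T) ⊔ (K₂ ⊔ T)) = ⊥ ∧
      ∀ P ∈ [K₁ ⊔ T, K₂ ⊔ T],
        Subgroup.centralizer (pCoreOf 2 P : Set G) ≤ pCoreOf 2 P ∧ IsSylowTwoIn T P ∧
        (pCoreOf 2 P).relIndex P = 6 ∧ ¬ ⁅P, P⁆ ≤ pCoreOf 2 P ∧ ⁅omegaCenterOf T, P⁆ ≠ ⊥ ∧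
        ∃ L : Subgroup G, IsMaximalTwoLocal L ∧ P ≤ L ∧ IsSylowTwoIn T L ∧
          ∀ L' : Subgroup G, IsMaximalTwoLocal L' → P ≤ L' → L' = L := by
  have : Fact (Nat.Prime 2) := ⟨Nat.prime_two⟩
  -- WLOG `T ≤ S`
  obtain ⟨S', hTS, hMJ'⟩ := exists_sylow_ge S hMJ hT.1.1 hT.1.2.2.1
  clear hMJ
  clear S
  have hSM : (S' : Subgroup G) ≤ M :=
    Cfsg.Agent.Lib.Helper2.KS12.sylow_le_of_normalizer_thompson_le S' hMJ'
  obtain ⟨K, hK⟩ := Cfsg.Agent.S2949.result hL hN hZ hO S' M hM hMJ' T hT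
  obtain ⟨hT2, hKJ, hTK, -, hTP, L, hLmax, hPL, hTL, huniq, huniqJ, -⟩ :=
    Cfsg.Agent.Lib.Helper23.KS12.genP_L hL hN hZ hO S' M hM hMJ' T hT K hK
  -- the conclusion from a second component in `K*(M, T)`
  have fin1 : ∀ K₂ : Subgroup G, K₂ ∈ jComponentsOutside M T → K ≠ K₂ →
      pCoreOf 2 ((K ⊔ T) ⊔ (K₂ ⊔ T)) = ⊥ →
      ∃ K₁ K₂ : Subgroup G, K₁ ≠ K₂ ∧ IsJComponent T K₁ ∧ IsJComponent T K₂ ∧
      pCoreOf 2 ((K₁ ⊔ T) ⊔ (K₂ ⊔ T)) = ⊥ ∧
      ∀ P ∈ [K₁ ⊔ T, K₂ ⊔ T],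
        Subgroup.centralizer (pCoreOf 2 P : Set G) ≤ pCoreOf 2 P ∧ IsSylowTwoIn T P ∧
        (pCoreOf 2 P).relIndex P = 6 ∧ ¬ ⁅P, P⁆ ≤ pCoreOf 2 P ∧ ⁅omegaCenterOf T, P⁆ ≠ ⊥ ∧
        ∃ L : Subgroup G, IsMaximalTwoLocal L ∧ P ≤ L ∧ IsSylowTwoIn T L ∧
          ∀ L' : Subgroup G, IsMaximalTwoLocal L' → P ≤ L' → L' = L := by
    intro K₂ hK₂ hne hcore
    refine ⟨K, K₂, hne, hK.1.1, hK₂.1.1, hcore, ?_⟩
    intro P hP
    simp only [List.mem_cons, List.not_mem_nil, or_false] at hP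
    rcases hP with rfl | rfl
    · exact genP_closed hL hN hZ hO S' M hM hMJ' T hT K hK
    · exact genP_closed hL hN hZ hO S' M hM hMJ' T hT K₂ hK₂
  by_cases hTne : T = (S' : Subgroup G)
  · subst hTne
    by_cases hNS : Subgroup.normalizer ((S' : Subgroup G) : Set G) ≤ L
    · -- case (c)
      have hZZ₀ : omegaCenterOf (S' : Subgroup G) =
          omegaCenterOf (thompsonSubgroupOf 2 (S' : Subgroup G)) := by
        obtain ⟨-, h | h | h⟩ := Cfsg.Agent.S2951.result hL hN hZ hO S' M hM hMJ'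
          (S' : Subgroup G) hT le_rfl K hK L hLmax
          (sup_le (le_sup_left.trans hPL)
            ((Cfsg.Agent.Lib.Helper11.thompsonSubgroupOf_le 2 _).trans hTL.1))
          _ _ rfl rfl
        · exact h.1
        · exact h.1
        · exact h.1
      have hNJL : Subgroup.normalizer (thompsonSubgroupOf 2 (S' : Subgroup G) : Set G) ≤ L := by
        refine (Cfsg.Agent.Lib.Helper85.KS12.normalizer_le_normalizer_omegaCenterOf _).trans ?_
        rw [← hZZ₀]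
        exact (normalizer_omegaCenterOf_le_normalizer_sylow S' (hZ S')).trans hNS
      by_cases hU : ∀ N : Subgroup G, IsTwoLocal N → (S' : Subgroup G) ≤ N → N ≤ L
      · exact (hnotU S' M hM hMJ' hT K hK L hLmax
          (sup_le (le_sup_left.trans hPL)
            ((Cfsg.Agent.Lib.Helper11.thompsonSubgroupOf_le 2 _).trans hTL.1)) hU).elim
      · push Not at hU
        obtain ⟨N₁, hN₁, hSN₁, hN₁L⟩ := hU
        have hSmaxL : (S' : Subgroup G) ∈ maxStraddlingTwoSubgroups L :=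
          sylow_mem_maxStraddling_of_le S' hT.1.2.1 hTL.1 hN₁ hSN₁ hN₁L
        obtain ⟨K₂, hK₂⟩ := Cfsg.Agent.S2949.result hL hN hZ hO S' L hLmax.1 hNJL
          (S' : Subgroup G) hSmaxL
        obtain ⟨hne, hcore⟩ := Cfsg.Agent.Lib.Helper97.KS12.second_component_of_not_le
          (T := (S' : Subgroup G)) hK.2.2 huniqJ hK₂.2.1
        refine ⟨K, K₂, hne, hK.1.1, hK₂.1.1, hcore, ?_⟩
        intro P hP
        simp only [List.mem_cons, List.not_mem_nil, or_false] at hP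
        rcases hP with rfl | rfl
        · exact genP_closed hL hN hZ hO S' M hM hMJ' (S' : Subgroup G) hT K hK
        · exact genP_closed hL hN hZ hO S' L hLmax.1 hNJL (S' : Subgroup G) hSmaxL K₂ hK₂
    · -- case (b)
      obtain ⟨x, hxN, hxL⟩ := SetLike.not_le_iff_exists.mp hNS
      have hxM : x ∈ M :=
        hMJ' (Cfsg.Agent.Lib.Helper11.normalizer_le_normalizer_thompsonSubgroupOf 2 _ hxN)
      obtain ⟨K₂, hK₂, hne, hcore⟩ := Cfsg.Agent.Lib.Helper21.KS12.exists_second_component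
        hK hLmax hPL huniq hxM hxN hxL
      exact fin1 K₂ hK₂ hne hcore
  · -- case (a)
    obtain ⟨x, hxS, hxT, hxN⟩ :=
      Cfsg.Agent.Lib.Helper53.exists_mem_normalizer_not_mem S'.isPGroup'
        (lt_of_le_of_ne hTS hTne)
    have hxL : x ∉ L := Cfsg.Agent.Lib.Helper2.KS12.notMem_of_mem_sylow hTL S' hTS hxS hxT
    obtain ⟨K₂, hK₂, hne, hcore⟩ := Cfsg.Agent.Lib.Helper21.KS12.exists_second_component
      hK hLmax hPL huniq (hSM hxS) hxN hxL
    exact fin1 K₂ hK₂ hne hcore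

end Cfsg.Agent.Lib.Helper81.KS12
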