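import Mathlib
import Cfsg.Agent.Lib.Helper81.KS12.S2953F
import Cfsg.Agent.Lib.Helper34.KS12.UG

/-!
Kurzweil–Stellmacher chapter 12 cluster, statement S2953, STRONG form (for S2954): the frozen
conclusion of S2953 together with `T ≤ N_G(K₁)` and `T ≤ N_G(K₂)`.  (helper81)

* `s2953_strong_of_notU`: from the impossibility of scenario (U);
* `s2953_strong_of_al`: from helper31's abstract lemma AL (`Helper34.KS12.ALStatement G`).
-/

set_option autoImplicit false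

namespace Cfsg.Agent.Lib.Helper81.KS12

open Cfsg

universe u
variable {G : Type u} [Group G]

/-- **(F), strong form**: S2953 from the impossibility of scenario (U), together with
`T ≤ N_G(K₁)` and `T ≤ N_G(K₂)`. -/
theorem s2953_strong_of_notU [Finite G] (hL : IsCharacteristicTwoType G)
    (hN : ∀ N : Subgroup G, IsTwoLocal N → Group.IsSolvable ↥N)
    (hZ : ∀ S : Sylow 2 G, Subgroup.centralizer (omegaCenterOf (S : Subgroup G) : Set G) ≤
      Subgroup.normalizer ((S : Subgroup G) : Set G))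
    (hO : pCore 2 G = ⊥)
    (hnotU : ∀ (S : Sylow 2 G) (M : Subgroup G), IsTwoLocal M →
      Subgroup.normalizer (thompsonSubgroupOf 2 (S : Subgroup G) : Set G) ≤ M →
      (S : Subgroup G) ∈ maxStraddlingTwoSubgroups M →
      ∀ K : Subgroup G, K ∈ jComponentsOutside M (S : Subgroup G) →
      ∀ L : Subgroup G, IsMaximalTwoLocal L → K ⊔ thompsonSubgroupOf 2 (S : Subgroup G) ≤ L →
      ¬ ∀ N : Subgroup G, IsTwoLocal N → (S : Subgroup G) ≤ N → N ≤ L)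
    (S : Sylow 2 G) (M : Subgroup G) (hM : IsTwoLocal M)
    (hMJ : Subgroup.normalizer (thompsonSubgroupOf 2 (S : Subgroup G) : Set G) ≤ M)
    (T : Subgroup G) (hT : T ∈ maxStraddlingTwoSubgroups M) :
    ∃ K₁ K₂ : Subgroup G, K₁ ≠ K₂ ∧ IsJComponent T K₁ ∧ IsJComponent T K₂ ∧
      pCoreOf 2 ((K₁ ⊔ T) ⊔ (K₂ ⊔ T)) = ⊥ ∧
      (∀ P ∈ [K₁ ⊔ T, K₂ ⊔ T],
        Subgroup.centralizer (pCoreOf 2 P : Set G) ≤ pCoreOf 2 P ∧ IsSylowTwoIn T P ∧
        (pCoreOf 2 P).relIndex P = 6 ∧ ¬ ⁅P, P⁆ ≤ pCoreOf 2 P ∧ ⁅omegaCenterOf T, P⁆ ≠ ⊥ ∧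
        ∃ L : Subgroup G, IsMaximalTwoLocal L ∧ P ≤ L ∧ IsSylowTwoIn T L ∧
          ∀ L' : Subgroup G, IsMaximalTwoLocal L' → P ≤ L' → L' = L) ∧
      T ≤ Subgroup.normalizer (K₁ : Set G) ∧ T ≤ Subgroup.normalizer (K₂ : Set G) := by
  have : Fact (Nat.Prime 2) := ⟨Nat.prime_two⟩
  -- WLOG `T ≤ S`
  obtain ⟨S', hTS, hMJ'⟩ := exists_sylow_ge S hMJ hT.1.1 hT.1.2.2.1
  clear hMJ
  clear S
  have hSM : (S' : Subgroup G) ≤ M :=
    Cfsg.Agent.Lib.Helper2.KS12.sylow_le_of_normalizer_thompson_le S' hMJ'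
  obtain ⟨K, hK⟩ := Cfsg.Agent.S2949.result hL hN hZ hO S' M hM hMJ' T hT
  obtain ⟨hT2, hKJ, hTK, -, hTP, L, hLmax, hPL, hTL, huniq, huniqJ, -⟩ :=
    Cfsg.Agent.Lib.Helper23.KS12.genP_L hL hN hZ hO S' M hM hMJ' T hT K hK
  -- the conclusion from a second component in `K*(M, T)`
  have fin1 : ∀ K₂ : Subgroup G, K₂ ∈ jComponentsOutside M T → K ≠ K₂ →
      pCoreOf 2 ((K ⊔ T) ⊔ (K₂ ⊔ T)) = ⊥ →
      ∃ K₁ K₂ : Subgroup G, K₁ ≠ K₂ ∧ IsJComponent T K₁ ∧ IsJComponent T K₂ ∧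
      pCoreOf 2 ((K₁ ⊔ T) ⊔ (K₂ ⊔ T)) = ⊥ ∧
      (∀ P ∈ [K₁ ⊔ T, K₂ ⊔ T],
        Subgroup.centralizer (pCoreOf 2 P : Set G) ≤ pCoreOf 2 P ∧ IsSylowTwoIn T P ∧
        (pCoreOf 2 P).relIndex P = 6 ∧ ¬ ⁅P, P⁆ ≤ pCoreOf 2 P ∧ ⁅omegaCenterOf T, P⁆ ≠ ⊥ ∧
        ∃ L : Subgroup G, IsMaximalTwoLocal L ∧ P ≤ L ∧ IsSylowTwoIn T L ∧
          ∀ L' : Subgroup G, IsMaximalTwoLocal L' → P ≤ L' → L' = L) ∧
      T ≤ Subgroup.normalizer (K₁ : Set G) ∧ T ≤ Subgroup.normalizer (K₂ : Set G) := by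
    intro K₂ hK₂ hne hcore
    refine ⟨K, K₂, hne, hK.1.1, hK₂.1.1, hcore, ?_, hTK,
      (Cfsg.Agent.Lib.Helper23.KS12.genP_L hL hN hZ hO S' M hM hMJ' T hT K₂ hK₂).2.2.1⟩
    intro P hP
    simp only [List.mem_cons, List.not_mem_nil, or_false] at hP
    rcases hP with rfl | rfl
    · exact genP_closed hL hN hZ hO S' M hM hMJ' T hT K hK
    · exact genP_closed hL hN hZ hO S' M hM hMJ' T hT K₂ hK₂
  by_cases hTne : T = (S' : Subgroup G)
  · subst hTne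
    by_cases hNS : Subgroup.normalizer ((S' : Subgroup G) : Set G) ≤ L
    · -- case (c)
      have hZZ₀ : omegaCenterOf (S' : Subgroup G) =
          omegaCenterOf (thompsonSubgroupOf 2 (S' : Subgroup G)) := by
        obtain ⟨-, h | h | h⟩ := Cfsg.Agent.S2951.result hL hN hZ hO S' M hM hMJ'
          (S' : Subgroup G) hT le_rfl K hK L hLmax
          (sup_le (le_sup_left.trans hPL)
            ((Cfsg.Agent.Lib.Helper11.thompsonSubgroupOf_le 2 _).trans hTL.1))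
          _ _ rfl rfl
        · exact h.1
        · exact h.1
        · exact h.1
      have hNJL : Subgroup.normalizer (thompsonSubgroupOf 2 (S' : Subgroup G) : Set G) ≤ L := by
        refine (Cfsg.Agent.Lib.Helper85.KS12.normalizer_le_normalizer_omegaCenterOf _).trans ?_
        rw [← hZZ₀]
        exact (normalizer_omegaCenterOf_le_normalizer_sylow S' (hZ S')).trans hNS
      by_cases hU : ∀ N : Subgroup G, IsTwoLocal N → (S' : Subgroup G) ≤ N → N ≤ L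
      · exact (hnotU S' M hM hMJ' hT K hK L hLmax
          (sup_le (le_sup_left.trans hPL)
            ((Cfsg.Agent.Lib.Helper11.thompsonSubgroupOf_le 2 _).trans hTL.1)) hU).elim
      · push Not at hU
        obtain ⟨N₁, hN₁, hSN₁, hN₁L⟩ := hU
        have hSmaxL : (S' : Subgroup G) ∈ maxStraddlingTwoSubgroups L :=
          sylow_mem_maxStraddling_of_le S' hT.1.2.1 hTL.1 hN₁ hSN₁ hN₁L
        obtain ⟨K₂, hK₂⟩ := Cfsg.Agent.S2949.result hL hN hZ hO S' L hLmax.1 hNJL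
          (S' : Subgroup G) hSmaxL
        obtain ⟨hne, hcore⟩ := Cfsg.Agent.Lib.Helper97.KS12.second_component_of_not_le
          (T := (S' : Subgroup G)) hK.2.2 huniqJ hK₂.2.1
        refine ⟨K, K₂, hne, hK.1.1, hK₂.1.1, hcore, ?_, hTK,
          (Cfsg.Agent.Lib.Helper23.KS12.genP_L hL hN hZ hO S' L hLmax.1 hNJL (S' : Subgroup G)
            hSmaxL K₂ hK₂).2.2.1⟩
        intro P hP
        simp only [List.mem_cons, List.not_mem_nil, or_false] at hP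
        rcases hP with rfl | rfl
        · exact genP_closed hL hN hZ hO S' M hM hMJ' (S' : Subgroup G) hT K hK
        · exact genP_closed hL hN hZ hO S' L hLmax.1 hNJL (S' : Subgroup G) hSmaxL K₂ hK₂
    · -- case (b)
      obtain ⟨x, hxN, hxL⟩ := SetLike.not_le_iff_exists.mp hNS
      have hxM : x ∈ M :=
        hMJ' (Cfsg.Agent.Lib.Helper11.normalizer_le_normalizer_thompsonSubgroupOf 2 _ hxN)
      obtain ⟨K₂, hK₂, hne, hcore⟩ := Cfsg.Agent.Lib.Helper21.KS12.exists_second_component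
        hK hLmax hPL huniq hxM hxN hxL
      exact fin1 K₂ hK₂ hne hcore
  · -- case (a)
    obtain ⟨x, hxS, hxT, hxN⟩ :=
      Cfsg.Agent.Lib.Helper53.exists_mem_normalizer_not_mem S'.isPGroup'
        (lt_of_le_of_ne hTS hTne)
    have hxL : x ∉ L := Cfsg.Agent.Lib.Helper2.KS12.notMem_of_mem_sylow hTL S' hTS hxS hxT
    obtain ⟨K₂, hK₂, hne, hcore⟩ := Cfsg.Agent.Lib.Helper21.KS12.exists_second_component
      hK hLmax hPL huniq (hSM hxS) hxN hxL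
    exact fin1 K₂ hK₂ hne hcore

/-- S2953, strong form, from the abstract lemma AL. -/
theorem s2953_strong_of_al [Finite G] (hL : IsCharacteristicTwoType G)
    (hN : ∀ N : Subgroup G, IsTwoLocal N → Group.IsSolvable ↥N)
    (hZ : ∀ S : Sylow 2 G, Subgroup.centralizer (omegaCenterOf (S : Subgroup G) : Set G) ≤
      Subgroup.normalizer ((S : Subgroup G) : Set G))
    (hO : pCore 2 G = ⊥) (hAL : Cfsg.Agent.Lib.Helper34.KS12.ALStatement G)
    (S : Sylow 2 G) (M : Subgroup G) (hM : IsTwoLocal M)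
    (hMJ : Subgroup.normalizer (thompsonSubgroupOf 2 (S : Subgroup G) : Set G) ≤ M)
    (T : Subgroup G) (hT : T ∈ maxStraddlingTwoSubgroups M) :
    ∃ K₁ K₂ : Subgroup G, K₁ ≠ K₂ ∧ IsJComponent T K₁ ∧ IsJComponent T K₂ ∧
      pCoreOf 2 ((K₁ ⊔ T) ⊔ (K₂ ⊔ T)) = ⊥ ∧
      (∀ P ∈ [K₁ ⊔ T, K₂ ⊔ T],
        Subgroup.centralizer (pCoreOf 2 P : Set G) ≤ pCoreOf 2 P ∧ IsSylowTwoIn T P ∧
        (pCoreOf 2 P).relIndex P = 6 ∧ ¬ ⁅P, P⁆ ≤ pCoreOf 2 P ∧ ⁅omegaCenterOf T, P⁆ ≠ ⊥ ∧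
        ∃ L : Subgroup G, IsMaximalTwoLocal L ∧ P ≤ L ∧ IsSylowTwoIn T L ∧
          ∀ L' : Subgroup G, IsMaximalTwoLocal L' → P ≤ L' → L' = L) ∧
      T ≤ Subgroup.normalizer (K₁ : Set G) ∧ T ≤ Subgroup.normalizer (K₂ : Set G) :=
  s2953_strong_of_notU hL hN hZ hO
    (fun S M hM hMJ hT K hK L hLmax hKL =>
      Cfsg.Agent.Lib.Helper34.KS12.not_U_of_eq hL hN hZ hO hAL S M hM hMJ hT K hK L hLmax hKL)
    S M hM hMJ T hT

end Cfsg.Agent.Lib.Helper81.KS12
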