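import Mathlib
import Cfsg.Agent.Lib.Helper34.KS12.UG
import Cfsg.Agent.Lib.Helper97.KS12.ALHead
import Cfsg.Agent.Lib.Helper90.KS12.ALTail3

/-!
Kurzweil–Stellmacher chapter 12 cluster, S2953: the abstract lemma AL in helper34's packaged
form `ALStatement G`, as the composition of helper97's head (`al_head`, steps 1-3) and
helper90's tail (`al_tail`, steps 4-7).  (helper81)
-/

set_option autoImplicit false

namespace Cfsg.Agent.Lib.Helper81.KS12

universe u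
variable {G : Type u} [Group G]

/-- The abstract lemma AL: head (helper97) followed by tail (helper90). -/
theorem al_full [Finite G] : Cfsg.Agent.Lib.Helper34.KS12.ALStatement G := by
  intro S T' K' W W' x z hW4 hW2 hSW hzW hz1 hzS hP2 hT'S hT'K' hW'4 hW'2 hK'W' hT'W' hW'T'
    hQidx hK'Q hcomm hK'idx hK'C hfp hxS hxT' hxn hx2 hKP hno hWS
  obtain ⟨hWT', u, w0, hu, huQ, hu2, hw0, hw01, huw0, hQu⟩ :=
    Cfsg.Agent.Lib.Helper97.KS12.al_head S T' K' W W' x z hW4 hW2 hSW hzW hz1 hzS hP2 hT'S hT'K'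
      hW'4 hW'2 hK'W' hT'W' hW'T' hQidx hK'Q hcomm hK'idx hK'C hfp hxS hxT' hxn hx2 hKP hno hWS
  exact Cfsg.Agent.Lib.Helper90.KS12.al_tail S T' K' W W' x z u w0 hW4 hW2 hSW hzW hz1 hzS hP2
    hT'S hT'K' hW'4 hW'2 hK'W' hT'W' hW'T' hQidx hK'Q hcomm hK'idx hK'C hfp hxS hxT' hxn hx2 hKP
    hno hWS hWT' hu huQ hu2 hw0 hw01 huw0 hQu

end Cfsg.Agent.Lib.Helper81.KS12
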