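import Mathlib
import Cfsg.Agent.Lib.Helper81.KS12.S2953F
import Cfsg.Agent.Lib.Helper34.KS12.UG

/-!
Kurzweil–Stellmacher chapter 12 cluster: S2953 from helper31's abstract lemma AL
(`Cfsg.Agent.Lib.Helper34.KS12.ALStatement G`), via helper34's (U)-glue `not_U_of_eq` and the
final case assembly `s2953_of_notU`.  (helper81)
-/

set_option autoImplicit false

namespace Cfsg.Agent.Lib.Helper81.KS12

open Cfsg

universe u
variable {G : Type u} [Group G]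

/-- S2953 from the abstract lemma AL. -/
theorem s2953_of_al [Finite G] (hL : IsCharacteristicTwoType G)
    (hN : ∀ N : Subgroup G, IsTwoLocal N → Group.IsSolvable ↥N)
    (hZ : ∀ S : Sylow 2 G, Subgroup.centralizer (omegaCenterOf (S : Subgroup G) : Set G) ≤
      Subgroup.normalizer ((S : Subgroup G) : Set G))
    (hO : pCore 2 G = ⊥) (hAL : Cfsg.Agent.Lib.Helper34.KS12.ALStatement G)
    (S : Sylow 2 G) (M : Subgroup G) (hM : IsTwoLocal M)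
    (hMJ : Subgroup.normalizer (thompsonSubgroupOf 2 (S : Subgroup G) : Set G) ≤ M)
    (T : Subgroup G) (hT : T ∈ maxStraddlingTwoSubgroups M) :
    ∃ K₁ K₂ : Subgroup G, K₁ ≠ K₂ ∧ IsJComponent T K₁ ∧ IsJComponent T K₂ ∧
      pCoreOf 2 ((K₁ ⊔ T) ⊔ (K₂ ⊔ T)) = ⊥ ∧
      ∀ P ∈ [K₁ ⊔ T, K₂ ⊔ T],
        Subgroup.centralizer (pCoreOf 2 P : Set G) ≤ pCoreOf 2 P ∧ IsSylowTwoIn T P ∧
        (pCoreOf 2 P).relIndex P = 6 ∧ ¬ ⁅P, P⁆ ≤ pCoreOf 2 P ∧ ⁅omegaCenterOf T, P⁆ ≠ ⊥ ∧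
        ∃ L : Subgroup G, IsMaximalTwoLocal L ∧ P ≤ L ∧ IsSylowTwoIn T L ∧
          ∀ L' : Subgroup G, IsMaximalTwoLocal L' → P ≤ L' → L' = L :=
  s2953_of_notU hL hN hZ hO
    (fun S M hM hMJ hT K hK L hLmax hKL =>
      Cfsg.Agent.Lib.Helper34.KS12.not_U_of_eq hL hN hZ hO hAL S M hM hMJ hT K hK L hLmax hKL)
    S M hM hMJ T hT

end Cfsg.Agent.Lib.Helper81.KS12
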